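import Cfsg.Agent.S3360
import Cfsg.Agent.Lib.Cores.Fitting
import Cfsg.Agent.Lib.Cores.PCore
import Cfsg.Agent.Lib.Frobenius.UniqueSubgroup
import Mathlib

/-!
Solvable linear groups transitive on nonzero vectors whose vector stabilisers are `p`-groups in the
characteristic `p`: they have a normal `p`-complement and abelian Sylow `p`-subgroups.
-/

set_option autoImplicit false

namespace Cfsg.Agent.Lib.TwoClassQuot

open Cfsg.Agent.Lib.Cores

section General

variable {X : Type*} [Group X] [Finite X] {p : ℕ} [Fact p.Prime]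

/-- A normal `p'`-subgroup of `p`-power index and commutative Sylow `p`-subgroups. -/
def Good (p : ℕ) (X : Type*) [Group X] : Prop :=
  (∃ K : Subgroup X, K.Normal ∧ ¬ p ∣ Nat.card K ∧ ∃ k, K.index = p ^ k) ∧
    ∀ P : Sylow p X, IsMulCommutative (P : Subgroup X)

theorem good_of_not_dvd (h : ¬ p ∣ Nat.card X) : Good p X := by
  refine ⟨⟨⊤, inferInstance, by rwa [Subgroup.card_top], 0, by simp⟩, fun P => ?_⟩
  have hP : (P : Subgroup X) = ⊥ := by
    obtain ⟨k, hk⟩ := IsPGroup.iff_card.mp P.isPGroup'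
    rcases Nat.eq_zero_or_pos k with rfl | hk0
    · exact Subgroup.eq_bot_of_card_eq _ (by simpa using hk)
    · exact absurd ((dvd_pow_self p hk0.ne').trans (hk ▸ Subgroup.card_subgroup_dvd_card _)) h
  refine ⟨⟨fun a b => Subtype.ext ?_⟩⟩
  have ha : (a : X) = 1 := Subgroup.mem_bot.mp (hP.le a.2)
  have hb : (b : X) = 1 := Subgroup.mem_bot.mp (hP.le b.2)
  simp [ha, hb]

/-- A normal `p'`-subgroup with abelian quotient gives everything. -/
theorem good_of_abelian_quotient (M : Subgroup X) [M.Normal] (hM : ¬ p ∣ Nat.card M)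
    (hab : ∀ a b : X, a * b * a⁻¹ * b⁻¹ ∈ M) : Good p X := by
  have hp : p.Prime := Fact.out
  have htriv : ∀ y : X, (∃ k, y ^ p ^ k = 1) → y ∈ M → y = 1 := by
    intro y ⟨k, hk⟩ hy
    have h1 : orderOf y ∣ Nat.card M := Subgroup.orderOf_dvd_natCard M hy
    have h2 : orderOf y ∣ p ^ k := orderOf_dvd_of_pow_eq_one hk
    exact orderOf_eq_one_iff.mp (Nat.eq_one_of_dvd_coprimes
      (Nat.Coprime.pow_left k ((hp.coprime_iff_not_dvd).mpr hM)) h2 h1)
  let cQ : CommGroup (X ⧸ M) :=
    { (inferInstance : Group (X ⧸ M)) with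
      mul_comm := by
        intro a b
        induction a using QuotientGroup.induction_on with
        | H a => induction b using QuotientGroup.induction_on with
          | H b =>
            rw [← QuotientGroup.mk_mul, ← QuotientGroup.mk_mul, QuotientGroup.eq]
            have := hab b⁻¹ a⁻¹
            simpa [mul_assoc] using this }
  refine ⟨?_, fun P => ⟨⟨fun a b => Subtype.ext ?_⟩⟩⟩
  · obtain ⟨a, n, hn, hcard⟩ := Nat.exists_eq_pow_mul_and_not_dvd (Nat.card_pos (α := X)).ne' p hp.ne_one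
    let K : Subgroup X :=
      { carrier := {x | (x : X ⧸ M) ^ n = 1}
        one_mem' := by simp
        mul_mem' := fun {x y} hx hy => by
          show ((x * y : X) : X ⧸ M) ^ n = 1
          rw [QuotientGroup.mk_mul, mul_pow, show (x : X ⧸ M) ^ n = 1 from hx,
            show (y : X ⧸ M) ^ n = 1 from hy, one_mul]
        inv_mem' := fun {x} hx => by
          show ((x⁻¹ : X) : X ⧸ M) ^ n = 1
          rw [QuotientGroup.mk_inv, inv_pow, show (x : X ⧸ M) ^ n = 1 from hx, inv_one] }
    have hKn : K.Normal := ⟨fun x hx g => by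
      show ((g * x * g⁻¹ : X) : X ⧸ M) ^ n = 1
      rw [QuotientGroup.mk_mul, QuotientGroup.mk_mul, QuotientGroup.mk_inv, mul_comm (g : X ⧸ M),
        mul_inv_cancel_right]
      exact hx⟩
    refine ⟨K, hKn, fun hd => ?_, ?_⟩
    · obtain ⟨y, hy⟩ := exists_prime_orderOf_dvd_card' p hd
      have hyp : (y : X) ^ p = 1 := by
        rw [← SubgroupClass.coe_pow, ← hy, pow_orderOf_eq_one, OneMemClass.coe_one]
      have h1 : ((y : X) : X ⧸ M) ^ n = 1 := y.2
      have h2 : ((y : X) : X ⧸ M) ^ p = 1 := by rw [← QuotientGroup.mk_pow, hyp, QuotientGroup.mk_one]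
      have h3 : ((y : X) : X ⧸ M) = 1 := by
        rw [← orderOf_eq_one_iff]
        exact Nat.eq_one_of_dvd_coprimes ((hp.coprime_iff_not_dvd).mpr hn)
          (orderOf_dvd_of_pow_eq_one h2) (orderOf_dvd_of_pow_eq_one h1)
      have := htriv y ⟨1, by rw [pow_one, hyp]⟩ ((QuotientGroup.eq_one_iff _).mp h3)
      have h4 : y = 1 := Subtype.ext this
      rw [h4, orderOf_one] at hy
      exact hp.one_lt.ne hy
    · haveI := hKn
      have hpg : IsPGroup p (X ⧸ K) := by
        intro x
        induction x using QuotientGroup.induction_on with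
        | H x =>
          refine ⟨a, ?_⟩
          rw [← QuotientGroup.mk_pow, QuotientGroup.eq_one_iff]
          show ((x ^ p ^ a : X) : X ⧸ M) ^ n = 1
          rw [← QuotientGroup.mk_pow, ← pow_mul, ← hcard, pow_card_eq_one', QuotientGroup.mk_one]
      obtain ⟨k, hk⟩ := IsPGroup.iff_card.mp hpg
      exact ⟨k, by rw [Subgroup.index_eq_card, hk]⟩
  · have h1 := hab (a : X) (b : X)
    obtain ⟨k, hk⟩ := P.isPGroup' (a * b * a⁻¹ * b⁻¹)
    have h2 := htriv _ ⟨k, by simpa using congrArg Subtype.val hk⟩ h1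
    rw [mul_inv_eq_one, mul_inv_eq_iff_eq_mul] at h2
    exact h2

/-- Congruence for the fixed points of conjugation by an element of prime power order. -/
theorem card_modEq_fixed {ℓ : ℕ} [Fact ℓ.Prime] (W : Subgroup X) (s : X) (hs : ∃ k, s ^ ℓ ^ k = 1)
    (hsW : ∀ w ∈ W, s * w * s⁻¹ ∈ W) :
    Nat.card W ≡ Nat.card ↥(W ⊓ Subgroup.centralizer ({s} : Set X)) [MOD ℓ] := by
  obtain ⟨k, hk⟩ := hs
  have hZ : IsPGroup ℓ (Subgroup.zpowers s) := by
    rintro ⟨x, i, rfl⟩
    refine ⟨k, Subtype.ext ?_⟩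
    show (s ^ i) ^ ℓ ^ k = 1
    rw [← zpow_natCast, ← zpow_mul, mul_comm, zpow_mul, zpow_natCast, hk, one_zpow]
  have hnorm : Subgroup.zpowers s ≤ Subgroup.normalizer (W : Set X) := by
    rw [Subgroup.zpowers_le]
    exact Subgroup.mem_normalizer_iff.mpr fun w => ⟨hsW w, fun h => by
      obtain ⟨m, hm⟩ : ∃ m : ℕ, s⁻¹ = s ^ m := ⟨orderOf s - 1, by
        rw [eq_comm, ← mul_eq_one_iff_eq_inv, ← pow_succ, Nat.sub_add_cancel (orderOf_pos s), pow_orderOf_eq_one]⟩
      have key : ∀ (j : ℕ) (u : X), u ∈ W → s ^ j * u * (s ^ j)⁻¹ ∈ W := by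
        intro j
        induction j with
        | zero => intro u hu; simpa using hu
        | succ j ih =>
          intro u hu
          have := hsW _ (ih u hu)
          rw [pow_succ', mul_inv_rev]
          simpa [mul_assoc] using this
      have := key m _ h
      rw [← hm] at this
      simpa [mul_assoc] using this⟩
  let φ : Subgroup.zpowers s →* MulAut W :=
    (Subgroup.normalizerMonoidHom W).comp (Subgroup.inclusion hnorm)
  letI : MulAction (Subgroup.zpowers s) W := MulAction.compHom W φ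
  have hfix : ∀ w : W, w ∈ MulAction.fixedPoints (Subgroup.zpowers s) W ↔
      (w : X) ∈ W ⊓ Subgroup.centralizer ({s} : Set X) := by
    intro w
    rw [Subgroup.mem_inf, Subgroup.mem_centralizer_singleton_iff, MulAction.mem_fixedPoints]
    constructor
    · intro h
      refine ⟨w.2, ?_⟩
      have := congrArg Subtype.val (h ⟨s, Subgroup.mem_zpowers s⟩)
      have h' : s * (w : X) * s⁻¹ = w := this
      exact (mul_inv_eq_iff_eq_mul.mp h').symm
    · rintro ⟨-, h⟩ ⟨g, hg⟩
      apply Subtype.ext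
      show g * (w : X) * g⁻¹ = w
      have hc : Commute g (w : X) := by
        obtain ⟨i, rfl⟩ := hg
        exact (show Commute s (w : X) from h.symm).zpow_left i
      rw [hc.eq, mul_inv_cancel_right]
  have e : MulAction.fixedPoints (Subgroup.zpowers s) W ≃ ↥(W ⊓ Subgroup.centralizer ({s} : Set X)) :=
    { toFun := fun w => ⟨((w : W) : X), (hfix w.1).mp w.2⟩
      invFun := fun w => ⟨⟨w.1, w.2.1⟩, (hfix ⟨w.1, w.2.1⟩).mpr w.2⟩
      left_inv := fun w => rfl
      right_inv := fun w => rfl }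
  have h := hZ.card_modEq_card_fixedPoints W
  rwa [Nat.card_congr e] at h

end General

section Linear

variable {X : Type*} [Group X] [Finite X] {p : ℕ} [Fact p.Prime]
  {V : Type*} [AddCommGroup V] [Module (ZMod p) V] [Finite V] [Nontrivial V]
  (ρ : X →* (V ≃ₗ[ZMod p] V))

/-- The hypotheses on the linear group. -/
structure Trans : Prop where
  inj : Function.Injective ρ
  trans : ∀ v w : V, v ≠ 0 → w ≠ 0 → ∃ g : X, ρ g v = w
  stab : ∀ v : V, v ≠ 0 → ∀ g : X, ρ g v = v → ∃ k, g ^ p ^ k = 1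

variable {ρ}

theorem rho_mul (g h : X) (v : V) : ρ (g * h) v = ρ g (ρ h v) := by rw [map_mul]; rfl

theorem rho_one (v : V) : ρ 1 v = v := by rw [map_one]; rfl

theorem exists_card_V : ∃ d, d ≠ 0 ∧ Nat.card V = p ^ d := by
  haveI := Fintype.ofFinite V
  refine ⟨Module.finrank (ZMod p) V, (Module.finrank_pos).ne', ?_⟩
  rw [Nat.card_eq_fintype_card, Module.card_eq_pow_finrank (K := ZMod p) (V := V), ZMod.card]

theorem exists_fixed {S : Subgroup X} (hS : IsPGroup p S) : ∃ v : V, v ≠ 0 ∧ ∀ g ∈ S, ρ g v = v := by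
  letI : MulAction S V :=
    { smul := fun g v => ρ (g : X) v
      one_smul := fun v => rho_one v
      mul_smul := fun g h v => rho_mul (g : X) (h : X) v }
  obtain ⟨d, hd, hV⟩ := exists_card_V (p := p) (V := V)
  obtain ⟨b, hb, hne⟩ := hS.exists_fixed_point_of_prime_dvd_card_of_fixed_point V
    (hV ▸ dvd_pow_self p hd) (a := (0 : V)) (fun g => map_zero (ρ (g : X)))
  exact ⟨b, hne.symm, fun g hg => hb ⟨g, hg⟩⟩

namespace Trans

variable (T : Trans ρ)
include T

theorem eq_one_of_all {g : X} (h : ∀ v : V, ρ g v = v) : g = 1 :=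
  T.inj (LinearEquiv.ext fun v => by rw [h, rho_one])

theorem semireg {g : X} (hg : ¬ p ∣ orderOf g) {v : V} (hv : v ≠ 0) (h : ρ g v = v) : g = 1 := by
  obtain ⟨k, hk⟩ := T.stab v hv g h
  exact orderOf_eq_one_iff.mp (Nat.eq_one_of_dvd_coprimes
    (Nat.Coprime.pow_left k (((Fact.out : p.Prime).coprime_iff_not_dvd).mpr hg))
    (orderOf_dvd_of_pow_eq_one hk) dvd_rfl)

theorem core {N : Subgroup X} (hn : N.Normal) (hN : IsPGroup p N) : N = ⊥ := by
  obtain ⟨v, hv, hfix⟩ := exists_fixed (ρ := ρ) hN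
  refine (Subgroup.eq_bot_iff_forall N).mpr fun g hg => T.eq_one_of_all fun w => ?_
  by_cases hw : w = 0
  · rw [hw, map_zero]
  obtain ⟨h, rfl⟩ := T.trans v w hv hw
  rw [← rho_mul, show g * h = h * (h⁻¹ * g * h) by group, rho_mul,
    hfix _ (by simpa using hn.conj_mem g hg h⁻¹)]

theorem pCore_eq_bot : Cfsg.pCore p X = ⊥ := T.core inferInstance (pCore_isPGroup p X)

/-- The stabiliser of a vector. -/
def stabSub (ρ : X →* (V ≃ₗ[ZMod p] V)) (v : V) : Subgroup X where
  carrier := {g | ρ g v = v}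
  one_mem' := rho_one v
  mul_mem' := fun {a b} ha hb => by
    show ρ (a * b) v = v
    rw [rho_mul, show ρ b v = v from hb, show ρ a v = v from ha]
  inv_mem' := fun {a} ha => by
    show ρ a⁻¹ v = v
    conv_lhs => rw [← show ρ a v = v from ha]
    rw [← rho_mul, inv_mul_cancel, rho_one]

theorem stab_card {v : V} (hv : v ≠ 0) :
    ∃ k, Nat.card (stabSub ρ v) = p ^ k ∧ Nat.card X = (Nat.card V - 1) * p ^ k := by
  have hP : IsPGroup p (stabSub ρ v) := fun g => by
    obtain ⟨k, hk⟩ := T.stab v hv g.1 g.2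
    exact ⟨k, Subtype.ext (by simpa using hk)⟩
  obtain ⟨k, hk⟩ := IsPGroup.iff_card.mp hP
  refine ⟨k, hk, ?_⟩
  letI : MulAction X V :=
    { smul := fun g u => ρ g u
      one_smul := fun u => rho_one u
      mul_smul := fun g h u => rho_mul g h u }
  have hs : MulAction.stabilizer X v = stabSub ρ v := SetLike.ext fun g => Iff.rfl
  have horb : MulAction.orbit X v = ({0}ᶜ : Set V) := by
    ext w
    constructor
    · rintro ⟨g, rfl⟩ h
      exact hv ((ρ g).map_eq_zero_iff.mp h)
    · intro hw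
      obtain ⟨g, hg⟩ := T.trans v w hv hw
      exact ⟨g, hg⟩
  have hi := MulAction.index_stabilizer X v
  rw [hs, horb, Set.ncard_compl, Set.ncard_singleton] at hi
  rw [← Subgroup.index_mul_card (stabSub ρ v), hi, hk]

theorem card_dvd {A : Subgroup X} (hA : ¬ p ∣ Nat.card A) : Nat.card A ∣ Nat.card V - 1 := by
  obtain ⟨v, hv⟩ := exists_ne (0 : V)
  obtain ⟨k, -, hX⟩ := T.stab_card hv
  have h := Subgroup.card_subgroup_dvd_card A
  rw [hX] at h
  exact (Nat.Coprime.pow_right k (((Fact.out : p.Prime).coprime_iff_not_dvd).mpr hA).symm).dvd_of_dvd_mul_right h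

/-- In odd characteristic an involution is `-1`. -/
theorem neg_of_involution (hp : p ≠ 2) {z : X} (hz : orderOf z = 2) (v : V) : ρ z v = -v := by
  have hzz : z * z = 1 := by
    have := pow_orderOf_eq_one z
    rwa [hz, pow_two] at this
  have hno : ¬ p ∣ orderOf z := by
    rw [hz]; exact fun h => hp ((Nat.prime_dvd_prime_iff_eq Fact.out Nat.prime_two).mp h)
  rw [eq_neg_iff_add_eq_zero]
  by_contra hne
  have hfix : ρ z (ρ z v + v) = ρ z v + v := by
    rw [map_add, ← rho_mul, hzz, rho_one, add_comm]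
  have := T.semireg hno hne hfix
  rw [this, orderOf_one] at hz
  exact absurd hz (by norm_num)

theorem involution_unique (hp : p ≠ 2) {y z : X} (hy : orderOf y = 2) (hz : orderOf z = 2) : y = z :=
  T.inj (LinearEquiv.ext fun v => by rw [T.neg_of_involution hp hy, T.neg_of_involution hp hz])

theorem involution_central (hp : p ≠ 2) {z : X} (hz : orderOf z = 2) (g : X) : g * z = z * g :=
  T.inj (LinearEquiv.ext fun v => by
    rw [rho_mul, rho_mul, T.neg_of_involution hp hz, T.neg_of_involution hp hz, map_neg])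

/-- A normal subgroup of order `ℓ` whose generator has cyclic vectors. -/
theorem good_of_normal_prime (Z : Subgroup X) [Z.Normal] (hZc : IsCyclic Z)
    (hcyc : ∀ v : V, v ≠ 0 → ∀ y : X, (∀ z ∈ Z, z * y = y * z) → ρ y v = v → ∀ w, ρ y w = w) :
    Good p X := by
  refine good_of_abelian_quotient (Subgroup.centralizer (Z : Set X)) (fun hd => ?_) fun a b => ?_
  · obtain ⟨y, hy⟩ := exists_prime_orderOf_dvd_card' p hd
    have hyP : IsPGroup p (Subgroup.zpowers (y : X)) :=
      IsPGroup.of_card (n := 1) (by rw [Nat.card_zpowers, Subgroup.orderOf_coe, hy, pow_one])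
    obtain ⟨v, hv, hfix⟩ := exists_fixed (ρ := ρ) hyP
    have := T.eq_one_of_all (hcyc v hv y (fun z hz => (Subgroup.mem_centralizer_iff.mp y.2 z hz))
      (hfix _ (Subgroup.mem_zpowers _)))
    have h1 : y = 1 := Subtype.ext this
    rw [h1, orderOf_one] at hy
    exact (Fact.out : p.Prime).one_lt.ne hy
  · rw [Subgroup.mem_centralizer_iff]
    intro z hz
    obtain ⟨⟨c, hc⟩, hgen⟩ := hZc.exists_generator
    have hpow : ∀ g : X, ∃ i : ℤ, g * c * g⁻¹ = c ^ i := by
      intro g
      obtain ⟨i, hi⟩ := Subgroup.mem_zpowers_iff.mp (hgen ⟨g * c * g⁻¹, Subgroup.Normal.conj_mem inferInstance c hc g⟩)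
      exact ⟨i, by simpa using (congrArg Subtype.val hi).symm⟩
    obtain ⟨i, hi⟩ := hpow a
    obtain ⟨j, hj⟩ := hpow b
    have hcomm : (a * b) * c * (a * b)⁻¹ = (b * a) * c * (b * a)⁻¹ := by
      calc (a * b) * c * (a * b)⁻¹ = a * (b * c * b⁻¹) * a⁻¹ := by group
        _ = (a * c * a⁻¹) ^ j := by rw [hj, conj_zpow]
        _ = c ^ (j * i) := by rw [hi, ← zpow_mul, mul_comm]
        _ = (b * c * b⁻¹) ^ i := by rw [hj, ← zpow_mul]
        _ = b * (a * c * a⁻¹) * b⁻¹ := by rw [conj_zpow, hi]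
        _ = _ := by group
    have hx : (b * a)⁻¹ * z * (b * a) ∈ Z := by
      simpa using (inferInstance : Z.Normal).conj_mem z hz (b * a)⁻¹
    obtain ⟨m, hm⟩ := Subgroup.mem_zpowers_iff.mp (hgen ⟨_, hx⟩)
    have hm' : c ^ m = (b * a)⁻¹ * z * (b * a) := by simpa using congrArg Subtype.val hm
    have h2 : (a * b) * c ^ m * (a * b)⁻¹ = (b * a) * c ^ m * (b * a)⁻¹ := by
      rw [← conj_zpow, ← conj_zpow, hcomm]
    rw [hm'] at h2
    have h3 : (a * b) * (b * a)⁻¹ * z * ((a * b) * (b * a)⁻¹)⁻¹ = z := by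
      calc (a * b) * (b * a)⁻¹ * z * ((a * b) * (b * a)⁻¹)⁻¹ =
          (a * b) * ((b * a)⁻¹ * z * (b * a)) * (a * b)⁻¹ := by group
        _ = (b * a) * ((b * a)⁻¹ * z * (b * a)) * (b * a)⁻¹ := h2
        _ = z := by group
    rw [mul_inv_eq_iff_eq_mul] at h3
    calc z * (a * b * a⁻¹ * b⁻¹) = z * ((a * b) * (b * a)⁻¹) := by group
      _ = (a * b) * (b * a)⁻¹ * z := h3.symm
      _ = _ := by group

end Trans

end Linear

end Cfsg.Agent.Lib.TwoClassQuot
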