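import Cfsg.Agent.Lib.TwoClassQuot.Linear

/-!
The semilinear case and the exceptional degrees `9, 25, 49, 121, 529, 81`.
-/

set_option autoImplicit false

namespace Cfsg.Agent.Lib.TwoClassQuot

open Cfsg.Agent.Lib.Cores

variable {X : Type*} [Group X] [Finite X] {p : ℕ} [Fact p.Prime]
  {V : Type*} [AddCommGroup V] [Module (ZMod p) V] [Finite V] [Nontrivial V]
  {ρ : X →* (V ≃ₗ[ZMod p] V)}

namespace Trans

variable (T : Trans ρ)
include T

theorem good_semilinear {F : Type} [Field F] [Fintype F] (e : V ≃+ F)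
    (h : ∀ g : X, ∃ (a : F) (σ : F ≃+* F), ∀ v : V, e (ρ g v) = a * σ (e v)) : Good p X := by
  classical
  choose a σ hσ using h
  have ha : ∀ g, a g ≠ 0 := by
    intro g hg
    obtain ⟨v, hv⟩ := exists_ne (0 : V)
    have h1 := hσ g v
    rw [hg, zero_mul, ← map_zero e, e.injective.eq_iff] at h1
    exact hv ((ρ g).map_eq_zero_iff.mp h1)
  have huniq : ∀ (g : X) (b : F) (τ : F ≃+* F), (∀ v, e (ρ g v) = b * τ (e v)) → τ = σ g := by
    intro g b τ hb
    have h1 : ∀ x, b * τ x = a g * σ g x := by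
      intro x
      obtain ⟨v, rfl⟩ := e.surjective x
      rw [← hb, ← hσ]
    have hba : b = a g := by simpa using h1 1
    subst hba
    exact RingEquiv.ext fun x => mul_left_cancel₀ (ha g) (h1 x)
  have hmul : ∀ g k, σ (g * k) = (σ k).trans (σ g) := by
    intro g k
    symm
    refine huniq (g * k) (a g * σ g (a k)) _ fun v => ?_
    rw [rho_mul, hσ, hσ, map_mul, RingEquiv.trans_apply, mul_assoc]
  let π : X →* RingAut F := MonoidHom.mk' σ fun g k => hmul g k
  haveI : π.ker.Normal := MonoidHom.normal_ker π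
  refine good_of_abelian_quotient π.ker (fun hd => ?_) fun x y => ?_
  · obtain ⟨g, hg⟩ := exists_prime_orderOf_dvd_card' p hd
    have hgP : IsPGroup p (Subgroup.zpowers (g : X)) :=
      IsPGroup.of_card (n := 1) (by rw [Nat.card_zpowers, Subgroup.orderOf_coe, hg, pow_one])
    obtain ⟨v, hv, hfix⟩ := exists_fixed (ρ := ρ) hgP
    have hid : σ (g : X) = RingEquiv.refl F := g.2
    have h1 := hσ (g : X) v
    rw [hfix _ (Subgroup.mem_zpowers _), hid, RingEquiv.refl_apply] at h1
    have ha1 : a (g : X) = 1 := by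
      have hev : e v ≠ 0 := fun h0 => hv (by rwa [← map_zero e, e.injective.eq_iff] at h0)
      exact (mul_eq_right₀ hev).mp h1.symm
    have h2 : (g : X) = 1 := T.eq_one_of_all fun w => e.injective (by
      rw [hσ, hid, RingEquiv.refl_apply, ha1, one_mul])
    have h3 : g = 1 := Subtype.ext h2
    rw [h3, orderOf_one] at hg
    exact (Fact.out : p.Prime).one_lt.ne hg
  · rw [MonoidHom.mem_ker, map_mul, map_mul, map_mul, map_inv, map_inv]
    obtain ⟨ζ, hζ⟩ := IsCyclic.exists_generator (α := Fˣ)
    have hexp : ∀ τ : RingAut F, ∃ i : ℕ, ∀ u : F, τ u = u ^ i ∨ u = 0 := by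
      intro τ
      obtain ⟨i, hi⟩ := mem_powers_iff_mem_zpowers.mpr (hζ (Units.map (τ : F →* F) ζ))
      refine ⟨i, fun u => ?_⟩
      by_cases hu : u = 0
      · exact Or.inr hu
      left
      obtain ⟨j, hj⟩ := mem_powers_iff_mem_zpowers.mpr (hζ (Units.mk0 u hu))
      have hu' : u = (ζ : F) ^ j := by
        have := congrArg Units.val hj
        simpa using this.symm
      have hi' : τ (ζ : F) = (ζ : F) ^ i := by
        have := congrArg Units.val hi
        simpa using this.symm
      rw [hu', map_pow, hi', ← pow_mul, ← pow_mul, mul_comm]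
    have hcomm : π x * π y = π y * π x := by
      obtain ⟨i, hi⟩ := hexp (π x)
      obtain ⟨j, hj⟩ := hexp (π y)
      refine RingEquiv.ext fun u => ?_
      show π x (π y u) = π y (π x u)
      by_cases hu : u = 0
      · simp [hu]
      have e1 : π y u = u ^ j := (hj u).resolve_right hu
      have e2 : π x u = u ^ i := (hi u).resolve_right hu
      rw [e1, e2, map_pow, map_pow, e1, e2, ← pow_mul, ← pow_mul, mul_comm]
    rw [hcomm]; group

theorem good_eighty_one (hV : Nat.card V = 81) [hsol : Group.IsSolvable X] : Good p X := by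
  have hp : p = 3 := by
    obtain ⟨d, hd, h⟩ := exists_card_V (p := p) (V := V)
    have h1 : p ∣ 3 ^ 4 := by
      have : p ∣ Nat.card V := h ▸ dvd_pow_self p hd
      rwa [hV] at this
    exact (Nat.prime_dvd_prime_iff_eq Fact.out Nat.prime_three).mp ((Fact.out : p.Prime).dvd_of_dvd_pow h1)
  haveI := Fact.mk (show Nat.Prime 5 by norm_num)
  haveI := Fact.mk Nat.prime_two
  obtain ⟨v0, hv0⟩ := exists_ne (0 : V)
  obtain ⟨k, -, hX⟩ := T.stab_card hv0
  rw [hV] at hX
  obtain ⟨f, hf⟩ := exists_prime_orderOf_dvd_card' (G := X) 5 (hX ▸ Dvd.dvd.mul_right (by norm_num) _)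
  have hf5 : f ^ 5 = 1 := hf ▸ pow_orderOf_eq_one f
  -- an element of order 5 has cyclic vectors
  have hcyc : ∀ f : X, orderOf f = 5 → ∀ v : V, v ≠ 0 → ∀ y : X, Commute f y → ρ y v = v → ∀ w, ρ y w = w := by
    intro f hf v hv y hfy hyv
    let W : Submodule (ZMod p) V := LinearMap.eqLocus (ρ y).toLinearMap LinearMap.id
    have hWf : ∀ w ∈ W, ρ f w ∈ W := by
      intro w hw
      show ρ y (ρ f w) = ρ f w
      rw [← rho_mul, ← hfy.eq, rho_mul]
      exact congrArg _ (show ρ y w = w from hw)
    have hWpow : ∀ (i : ℕ) (w : V), w ∈ W → ρ (f ^ i) w ∈ W := by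
      intro i
      induction i with
      | zero => intro w hw; rwa [pow_zero, rho_one]
      | succ i ih => intro w hw; rw [pow_succ', rho_mul]; exact hWf _ (ih w hw)
    letI : MulAction (Subgroup.zpowers f) W :=
      { smul := fun g w => ⟨ρ (g : X) w.1, by
          obtain ⟨i, hi⟩ := mem_powers_iff_mem_zpowers.mpr g.2
          rw [← hi]; exact hWpow i _ w.2⟩
        one_smul := fun w => Subtype.ext (rho_one w.1)
        mul_smul := fun g h w => Subtype.ext (rho_mul (g : X) (h : X) w.1) }
    have hP : IsPGroup 5 (Subgroup.zpowers f) := IsPGroup.of_card (n := 1) (by rw [Nat.card_zpowers, hf, pow_one])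
    have hfix : Nat.card (MulAction.fixedPoints (Subgroup.zpowers f) W) = 1 := by
      rw [Nat.card_eq_one_iff_unique]
      refine ⟨⟨fun a b => ?_⟩, ⟨⟨0, fun g => Subtype.ext (map_zero (ρ (g : X)))⟩⟩⟩
      have hz : ∀ c : MulAction.fixedPoints (Subgroup.zpowers f) W, ((c : W) : V) = 0 := by
        intro c
        by_contra hc
        have h1 : ρ f ((c : W) : V) = ((c : W) : V) := congrArg Subtype.val (c.2 ⟨f, Subgroup.mem_zpowers f⟩)
        have := T.semireg (g := f) (by rw [hf, hp]; decide) hc h1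
        rw [this, orderOf_one] at hf
        exact absurd hf (by norm_num)
      exact Subtype.ext (Subtype.ext (by rw [hz a, hz b]))
    have hmod := hP.card_modEq_card_fixedPoints W
    rw [hfix] at hmod
    haveI := Fintype.ofFinite W
    haveI := Fintype.ofFinite V
    have hWcard : Nat.card W = 3 ^ Module.finrank (ZMod p) W := by
      rw [Nat.card_eq_fintype_card, Module.card_eq_pow_finrank (K := ZMod p) (V := W), ZMod.card]
      exact congrArg (· ^ _) hp
    have hVcard : 3 ^ Module.finrank (ZMod p) V = 3 ^ 4 := by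
      have h1 := Module.card_eq_pow_finrank (K := ZMod p) (V := V)
      rw [← Nat.card_eq_fintype_card, ZMod.card, hV] at h1
      subst hp
      exact h1.symm.trans (by norm_num)
    have hV4 : Module.finrank (ZMod p) V = 4 := Nat.pow_right_injective (le_refl 2 |>.trans (by norm_num)) hVcard
    have hW4 : Module.finrank (ZMod p) W ≤ 4 := hV4 ▸ Submodule.finrank_le W
    have hW0 : W ≠ ⊥ := fun e => hv ((Submodule.eq_bot_iff W).mp e v hyv)
    have hW1 : Module.finrank (ZMod p) W ≠ 0 := fun e => hW0 (Submodule.finrank_eq_zero.mp e)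
    have htop : W = ⊤ := by
      apply Submodule.eq_top_of_finrank_eq
      rw [hV4]
      rw [hWcard] at hmod
      generalize Module.finrank (ZMod p) W = m at hW4 hW1 hmod
      interval_cases m <;> first | omega | (exact absurd hmod (by decide))
    intro w
    exact (htop ▸ Submodule.mem_top : w ∈ W)
  by_cases h5 : Cfsg.pCore 5 X = ⊥
  · exfalso
    set R := Cfsg.pCore 2 X with hR
    have hdvd : ∀ r : ℕ, r.Prime → r ≠ 3 → Nat.card (Cfsg.pCore r X) ∣ 80 := by
      intro r hr hr3
      haveI := Fact.mk hr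
      have hnd : ¬ p ∣ Nat.card (Cfsg.pCore r X) := by
        obtain ⟨i, hi⟩ := IsPGroup.iff_card.mp (pCore_isPGroup r X)
        rw [hi, hp]
        exact fun h => hr3 ((Nat.prime_dvd_prime_iff_eq Nat.prime_three hr).mp (Nat.prime_three.dvd_of_dvd_pow h)).symm
      have := T.card_dvd hnd
      rwa [hV] at this
    have hF : Cfsg.fittingSubgroup X ≤ R := by
      refine fittingSubgroup_le_of_pCore_le fun r hr => ?_
      haveI := Fact.mk hr
      by_cases hr2 : r = 2
      · subst hr2; exact le_rfl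
      by_cases hr5 : r = 5
      · subst hr5; rw [h5]; exact bot_le
      by_cases hr3 : r = 3
      · subst hr3; subst hp; exact T.pCore_eq_bot.le.trans bot_le
      obtain ⟨i, hi⟩ := IsPGroup.iff_card.mp (pCore_isPGroup r X)
      rcases Nat.eq_zero_or_pos i with rfl | hi0
      · rw [Subgroup.eq_bot_of_card_eq (Cfsg.pCore r X) (by simpa using hi)]; exact bot_le
      · have h80 : r ∣ 2 ^ 4 * 5 := (dvd_pow_self r hi0.ne').trans (hi ▸ hdvd r hr hr3)
        rcases hr.dvd_mul.mp h80 with h | h
        · exact absurd ((Nat.prime_dvd_prime_iff_eq hr Nat.prime_two).mp (hr.dvd_of_dvd_pow h)) hr2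
        · exact absurd ((Nat.prime_dvd_prime_iff_eq hr (by norm_num)).mp h) hr5
    obtain ⟨i, hi⟩ := IsPGroup.iff_card.mp (pCore_isPGroup 2 X)
    have hi4 : i ≤ 4 := by
      have h1 := hdvd 2 Nat.prime_two (by norm_num)
      rw [hi] at h1
      by_contra hlt
      have h2 : 2 ^ 5 ∣ 80 := (pow_dvd_pow 2 (by omega)).trans h1
      norm_num at h2
    haveI : Nontrivial X := ⟨f, 1, fun e => by rw [e, orderOf_one] at hf; exact absurd hf (by norm_num)⟩
    have hi0 : i ≠ 0 := fun e => fittingSubgroup_ne_bot_of_isSolvable hsol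
      (le_bot_iff.mp (hF.trans_eq (Subgroup.eq_bot_of_card_eq _ (by rw [hi, e, pow_zero]))))
    obtain ⟨z, hz⟩ := exists_prime_orderOf_dvd_card' (G := R) 2 (hi ▸ dvd_pow_self 2 hi0)
    have hz' : orderOf (z : X) = 2 := by rw [Subgroup.orderOf_coe, hz]
    have hzC : (z : X) ∈ R ⊓ Subgroup.centralizer ({f} : Set X) :=
      ⟨z.2, Subgroup.mem_centralizer_singleton_iff.mpr (T.involution_central (by omega) hz' f).symm⟩
    have hmod := card_modEq_fixed (ℓ := 5) R f ⟨1, by rw [pow_one, hf5]⟩
      (fun w hw => (inferInstance : R.Normal).conj_mem w hw f)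
    obtain ⟨j, hji, hj⟩ := (Nat.dvd_prime_pow Nat.prime_two).mp
      (hi ▸ Subgroup.card_dvd_of_le (inf_le_left : R ⊓ Subgroup.centralizer ({f} : Set X) ≤ R))
    have hj0 : j ≠ 0 := by
      intro e
      rw [e, pow_zero] at hj
      have := (Subgroup.eq_bot_of_card_eq _ hj).le hzC
      rw [Subgroup.mem_bot] at this
      rw [this, orderOf_one] at hz'
      exact absurd hz' (by norm_num)
    rw [hi, hj] at hmod
    have hij : i = j := by
      interval_cases i <;> interval_cases j <;> first | rfl | omega | (exact absurd hmod (by decide))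
    have hRC : R ⊓ Subgroup.centralizer ({f} : Set X) = R :=
      Subgroup.eq_of_le_of_card_ge inf_le_left (by rw [hi, hj, hij])
    have hfF : f ∈ R := by
      apply hF
      refine centralizer_fittingSubgroup_le hsol (Subgroup.mem_centralizer_iff.mpr fun y hy => ?_)
      exact Subgroup.mem_centralizer_singleton_iff.mp (hRC.ge (hF hy)).2
    obtain ⟨m, hm⟩ := (pCore_isPGroup 2 X) ⟨f, hfF⟩
    have h2 : 5 ∣ 2 ^ m := hf ▸ orderOf_dvd_of_pow_eq_one (by simpa using congrArg Subtype.val hm)
    exact absurd ((show Nat.Prime 5 by norm_num).dvd_of_dvd_pow h2) (by norm_num)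
  · obtain ⟨i, hi⟩ := IsPGroup.iff_card.mp (pCore_isPGroup 5 X)
    have hnd : ¬ p ∣ Nat.card (Cfsg.pCore 5 X) := by
      rw [hi, hp]
      exact fun h => absurd (Nat.prime_three.dvd_of_dvd_pow h) (by norm_num)
    have h80 := T.card_dvd hnd
    rw [hV, hi] at h80
    have hi1 : i = 1 := by
      rcases i with _ | _ | i
      · exact absurd (Subgroup.eq_bot_of_card_eq _ (by rw [hi, pow_zero])) h5
      · rfl
      · have h2 : 5 ^ 2 ∣ 80 := (pow_dvd_pow 5 (by omega)).trans h80
        norm_num at h2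
    rw [hi1, pow_one] at hi
    refine T.good_of_normal_prime _ (isCyclic_of_prime_card hi) fun v hv y hy hyv => ?_
    obtain ⟨c, hc⟩ := exists_prime_orderOf_dvd_card' (G := Cfsg.pCore 5 X) 5 (by rw [hi])
    exact hcyc c (by rw [Subgroup.orderOf_coe, hc]) v hv y (hy c c.2) hyv

theorem card_sylow_le (hV : Nat.card V = p ^ 2) (S : Subgroup X) (hS : IsPGroup p S) : Nat.card S ∣ p := by
  classical
  obtain ⟨v, hv, hfix⟩ := exists_fixed (ρ := ρ) hS
  let L : Submodule (ZMod p) V := Submodule.span (ZMod p) {v}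
  obtain ⟨w, hw⟩ : ∃ w, w ∉ L := by
    by_contra h
    push Not at h
    have htop : L = ⊤ := Submodule.eq_top_iff'.mpr h
    have h1 : Nat.card L = p := by
      haveI := Fintype.ofFinite L
      rw [Nat.card_eq_fintype_card, Module.card_eq_pow_finrank (K := ZMod p) (V := L),
        finrank_span_singleton hv, ZMod.card, pow_one]
    rw [htop, Nat.card_congr Submodule.topEquiv.toEquiv, hV] at h1
    have := (Fact.out : p.Prime).one_lt
    nlinarith
  have hLfix : ∀ g ∈ S, ∀ u ∈ L, ρ g u = u := by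
    intro g hg u hu
    obtain ⟨c, rfl⟩ := Submodule.mem_span_singleton.mp hu
    rw [map_smul, hfix g hg]
  let f : S → {u : V // u ∉ L} := fun g => ⟨ρ (g : X) w, fun h => hw (by
    have h1 := hLfix _ (inv_mem g.2) _ h
    rw [← rho_mul, inv_mul_cancel, rho_one] at h1
    rwa [← h1] at h)⟩
  have hinj : Function.Injective f := by
    intro g g' hgg
    have h1 : ρ (g : X) w = ρ (g' : X) w := congrArg Subtype.val hgg
    have h2 : ρ ((g' : X)⁻¹ * g) w = w := by rw [rho_mul, h1, ← rho_mul, inv_mul_cancel, rho_one]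
    have hmem := S.mul_mem (S.inv_mem g'.2) g.2
    let W : Submodule (ZMod p) V := LinearMap.eqLocus (ρ ((g' : X)⁻¹ * g)).toLinearMap LinearMap.id
    have hWtop : W = ⊤ := by
      by_contra hne
      have hlt : L < W := lt_of_le_of_ne (fun u hu => hLfix _ hmem u hu) (fun e => hw (e ▸ h2))
      have h3 := Submodule.finrank_lt_finrank_of_lt hlt
      rw [finrank_span_singleton hv] at h3
      have h4 := Submodule.finrank_lt hne
      haveI := Fintype.ofFinite V
      have h5 := Module.card_eq_pow_finrank (K := ZMod p) (V := V)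
      rw [← Nat.card_eq_fintype_card, hV, ZMod.card] at h5
      have := Nat.pow_right_injective (Fact.out : p.Prime).two_le h5
      omega
    have := T.eq_one_of_all (g := (g' : X)⁻¹ * g) fun u => (hWtop ▸ Submodule.mem_top : u ∈ W)
    exact Subtype.ext (inv_mul_eq_one.mp this).symm
  have hle : Nat.card S < p ^ 2 := by
    refine lt_of_le_of_lt (Nat.card_le_card_of_injective f hinj) ?_
    rw [← hV]
    haveI := Fintype.ofFinite V
    rw [Nat.card_eq_fintype_card, Nat.card_eq_fintype_card]
    exact Fintype.card_subtype_lt (x := v) (fun h => h (Submodule.mem_span_singleton_self v))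
  obtain ⟨k, hk⟩ := IsPGroup.iff_card.mp hS
  rw [hk] at hle ⊢
  have := (Nat.pow_lt_pow_iff_right (Fact.out : p.Prime).one_lt).mp hle
  calc p ^ k ∣ p ^ 1 := pow_dvd_pow p (by omega)
    _ = p := pow_one p

/-- The fixed vectors of a `p'`-group centralising a nontrivial `p`-element are counted by a line. -/
theorem card_centralizing_le (hV : Nat.card V = p ^ 2) {s : X} (hs : orderOf s = p) (A : Subgroup X)
    (hA : ¬ p ∣ Nat.card A) (hAs : ∀ a ∈ A, a * s = s * a) : Nat.card A ≤ p - 1 := by
  classical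
  have hsP : IsPGroup p (Subgroup.zpowers s) := IsPGroup.of_card (n := 1) (by rw [Nat.card_zpowers, hs, pow_one])
  obtain ⟨v, hv, hfix⟩ := exists_fixed (ρ := ρ) hsP
  let W : Submodule (ZMod p) V := LinearMap.eqLocus (ρ s).toLinearMap LinearMap.id
  have hWne : W ≠ ⊤ := fun e => by
    have := T.eq_one_of_all (g := s) fun u => (e ▸ Submodule.mem_top : u ∈ W)
    rw [this, orderOf_one] at hs
    exact (Fact.out : p.Prime).one_lt.ne hs
  haveI := Fintype.ofFinite V
  haveI := Fintype.ofFinite W
  have hW : Nat.card W ≤ p := by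
    have h4 := Submodule.finrank_lt hWne
    have h5 := Module.card_eq_pow_finrank (K := ZMod p) (V := V)
    rw [← Nat.card_eq_fintype_card, hV, ZMod.card] at h5
    have := Nat.pow_right_injective (Fact.out : p.Prime).two_le h5
    rw [Nat.card_eq_fintype_card, Module.card_eq_pow_finrank (K := ZMod p) (V := W), ZMod.card]
    calc p ^ Module.finrank (ZMod p) W ≤ p ^ 1 :=
        Nat.pow_le_pow_right (Fact.out : p.Prime).pos (by omega)
      _ = p := pow_one p
  have hvW : v ∈ W := hfix s (Subgroup.mem_zpowers s)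
  let f : A → {u : W // (u : V) ≠ 0} := fun a => ⟨⟨ρ (a : X) v, by
      show ρ s (ρ (a : X) v) = ρ (a : X) v
      rw [← rho_mul, ← hAs a a.2, rho_mul]; exact congrArg _ hvW⟩,
    fun h => hv ((ρ (a : X)).map_eq_zero_iff.mp h)⟩
  have hinj : Function.Injective f := by
    intro a b hab
    have h1 : ρ (a : X) v = ρ (b : X) v := congrArg (fun u : {u : W // (u : V) ≠ 0} => ((u : W) : V)) hab
    have h2 : ρ ((b : X)⁻¹ * a) v = v := by rw [rho_mul, h1, ← rho_mul, inv_mul_cancel, rho_one]
    have h3 := T.semireg (g := (b : X)⁻¹ * a) (fun hd => hA (hd.trans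
      (Subgroup.orderOf_dvd_natCard A (A.mul_mem (A.inv_mem b.2) a.2)))) hv h2
    exact Subtype.ext (inv_mul_eq_one.mp h3).symm
  have h1 : Nat.card A < Nat.card W := by
    refine lt_of_le_of_lt (Nat.card_le_card_of_injective f hinj) ?_
    rw [Nat.card_eq_fintype_card, Nat.card_eq_fintype_card]
    exact Fintype.card_subtype_lt (x := (0 : W)) (fun h => h rfl)
  omega

set_option synthInstance.maxSize 1024 in
theorem good_square (hV : Nat.card V = p ^ 2) (hp : p ∈ ({3, 5, 7, 11, 23} : Finset ℕ))
    [hsol : Group.IsSolvable X] : Good p X := by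
  by_cases hd : p ∣ Nat.card X
  swap
  · exact good_of_not_dvd hd
  have hp2 : p ≠ 2 := fun e => by rw [e] at hp; exact absurd hp (by decide)
  obtain ⟨s, hs⟩ := exists_prime_orderOf_dvd_card' (G := X) p hd
  have hs1 : s ≠ 1 := fun e => by rw [e, orderOf_one] at hs; exact (Fact.out : p.Prime).one_lt.ne hs
  obtain ⟨r, hr, hnc⟩ : ∃ r, r.Prime ∧ ¬ Cfsg.pCore r X ≤ Subgroup.centralizer ({s} : Set X) := by
    by_contra h
    push Not at h
    have h1 : Cfsg.fittingSubgroup X ≤ Subgroup.centralizer ({s} : Set X) :=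
      fittingSubgroup_le_of_pCore_le h
    have h2 : s ∈ Cfsg.fittingSubgroup X := centralizer_fittingSubgroup_le hsol
      (Subgroup.mem_centralizer_iff.mpr fun y hy => Subgroup.mem_centralizer_singleton_iff.mp (h1 hy))
    have hle := pCore_fittingSubgroup (G := X) p
    haveI := fittingSubgroup_isNilpotent X
    obtain ⟨P⟩ : Nonempty (Sylow p (Cfsg.fittingSubgroup X)) := inferInstance
    have hPn : (P : Subgroup (Cfsg.fittingSubgroup X)).Normal := inferInstance
    have hsP : (⟨s, h2⟩ : Cfsg.fittingSubgroup X) ∈ (P : Subgroup (Cfsg.fittingSubgroup X)) := by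
      have hZ : IsPGroup p (Subgroup.zpowers (⟨s, h2⟩ : Cfsg.fittingSubgroup X)) :=
        IsPGroup.of_card (n := 1) (by rw [Nat.card_zpowers, Subgroup.orderOf_mk, hs, pow_one])
      obtain ⟨P', hP'⟩ := hZ.exists_le_sylow
      haveI := P.unique_of_normal hPn
      rw [Subsingleton.elim P P']
      exact hP' (Subgroup.mem_zpowers _)
    have hbot : Cfsg.pCore p (Cfsg.fittingSubgroup X) = ⊥ := by
      rw [← Subgroup.map_eq_bot_iff_of_injective _ (Cfsg.fittingSubgroup X).subtype_injective, hle,
        T.pCore_eq_bot]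
    have := Cfsg.Agent.Lib.Cores.le_pCore hPn P.isPGroup' hsP
    rw [hbot, Subgroup.mem_bot] at this
    exact hs1 (congrArg Subtype.val this)
  haveI := Fact.mk hr
  set R := Cfsg.pCore r X with hR
  have hrp : r ≠ p := by
    rintro rfl
    exact hnc (by rw [hR, T.pCore_eq_bot]; exact bot_le)
  obtain ⟨i, hi⟩ := IsPGroup.iff_card.mp (pCore_isPGroup r X)
  have hRp : ¬ p ∣ Nat.card R := by
    rw [hi]
    exact fun h => hrp ((Nat.prime_dvd_prime_iff_eq Fact.out hr).mp ((Fact.out : p.Prime).dvd_of_dvd_pow h)).symm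
  have hRdvd := T.card_dvd hRp
  rw [hV] at hRdvd
  set C := R ⊓ Subgroup.centralizer ({s} : Set X) with hC
  have hCR : Nat.card C ∣ Nat.card R := Subgroup.card_dvd_of_le inf_le_left
  have hCne : Nat.card C ≠ Nat.card R := fun e =>
    hnc (fun x hx => ((Subgroup.eq_of_le_of_card_ge (inf_le_left : C ≤ R) e.ge).ge hx).2)
  have hCp : Nat.card C ≤ p - 1 := T.card_centralizing_le hV hs C
    (fun h => hRp (h.trans hCR)) (fun a ha => Subgroup.mem_centralizer_singleton_iff.mp ha.2)
  have hmod : Nat.card R ≡ Nat.card C [MOD p] := card_modEq_fixed R s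
    ⟨1, by rw [pow_one, ← hs, pow_orderOf_eq_one]⟩ (fun w hw => (inferInstance : R.Normal).conj_mem w hw s)
  have heven : r = 2 → ∀ z : X, orderOf z = 2 → z ∈ R → 2 ≤ Nat.card C := by
    intro _ z hz hzR
    have hzC : z ∈ C := ⟨hzR, Subgroup.mem_centralizer_singleton_iff.mpr (T.involution_central hp2 hz s).symm⟩
    have := Subgroup.orderOf_dvd_natCard C hzC
    rw [hz] at this
    exact Nat.le_of_dvd Nat.card_pos this
  have hnum : (p = 3 ∧ Nat.card R = 8) ∨ (p = 7 ∧ r = 2 ∧ Nat.card R = 16 ∧ Nat.card C = 2) := by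
    have hcase : (r = 2 ∧ 2 ≤ Nat.card C) ∨ r ≠ 2 := by
      by_cases h2 : r = 2
      · subst h2
        have hi0 : i ≠ 0 := fun e => hCne (Nat.dvd_antisymm hCR (by rw [hi, e, pow_zero]; exact one_dvd _))
        obtain ⟨z, hz⟩ := exists_prime_orderOf_dvd_card' (G := R) 2 (hi ▸ dvd_pow_self 2 hi0)
        exact Or.inl ⟨rfl, heven rfl z (by rw [Subgroup.orderOf_coe, hz]) z.2⟩
      · exact Or.inr h2
    obtain ⟨j, hji, hj⟩ := (Nat.dvd_prime_pow hr).mp (hi ▸ hCR)
    have hi1 : r ∣ p ^ 2 - 1 := by
      rcases Nat.eq_zero_or_pos i with rfl | h0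
      · exact absurd (Nat.dvd_antisymm hCR (by rw [hi, pow_zero]; exact one_dvd _)) hCne
      · exact (dvd_pow_self r h0.ne').trans (hi ▸ hRdvd)
    have hpos : 1 < p ^ 2 := Nat.one_lt_pow (by norm_num) (Fact.out : p.Prime).one_lt
    have hrle : r ≤ p ^ 2 - 1 := Nat.le_of_dvd (by omega) hi1
    rw [hi] at hRdvd hmod hCne ⊢
    rw [hj] at hmod hCne hCp hcase ⊢
    have hji' : j < i := lt_of_le_of_ne hji fun e => hCne (by rw [e])
    simp only [Finset.mem_insert, Finset.mem_singleton] at hp
    have key : ∀ (p r i j : ℕ), r ^ i ∣ p ^ 2 - 1 → j < i → r ^ j ≤ p - 1 → r ^ i ≡ r ^ j [MOD p] →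
        ((r = 2 ∧ 2 ≤ r ^ j) ∨ r ≠ 2) → (p = 3 ∨ p = 5 ∨ p = 7 ∨ p = 11 ∨ p = 23) → r.Prime →
        (p = 3 ∧ r ^ i = 8) ∨ (p = 7 ∧ r = 2 ∧ r ^ i = 16 ∧ r ^ j = 2) := by
      intro p r i j h1 h2 h3 h4 h5 h6 h7
      have hm : 0 < p ^ 2 - 1 := by rcases h6 with rfl | rfl | rfl | rfl | rfl <;> norm_num
      have hr' : r ∈ (p ^ 2 - 1).primeFactors :=
        Nat.mem_primeFactors.mpr ⟨h7, (dvd_pow_self r (by omega)).trans h1, hm.ne'⟩
      have hib : i < 5 := by
        by_contra hlt
        have h8 : r ^ 5 ≤ p ^ 2 - 1 := Nat.le_of_dvd hm ((pow_dvd_pow r (by omega)).trans h1)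
        have h9 : r ^ 5 ∣ p ^ 2 - 1 := (pow_dvd_pow r (by omega)).trans h1
        rcases h6 with rfl | rfl | rfl | rfl | rfl
        all_goals
          have hrb : r < 4 := by
            by_contra hr4
            have := Nat.pow_le_pow_left (not_lt.mp hr4) 5
            omega
          interval_cases r <;> first | (norm_num at h7; done) | (norm_num at h9; done)
      have hdiv : r ∈ [2, 3, 5, 11] := by
        have hd := (Nat.mem_primeFactors.mp hr').2.1
        rcases h6 with rfl | rfl | rfl | rfl | rfl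
        all_goals
          have hle := Nat.le_of_dvd hm hd
          norm_num at hd hle
        · have : r ≤ 8 := hle; interval_cases r <;> first | (norm_num at h7; done) | (norm_num at hd; done) | decide
        · have : r ≤ 24 := hle; interval_cases r <;> first | (norm_num at h7; done) | (norm_num at hd; done) | decide
        · have : r ≤ 48 := hle; interval_cases r <;> first | (norm_num at h7; done) | (norm_num at hd; done) | decide
        · have : r ≤ 120 := hle; interval_cases r <;> first | (norm_num at h7; done) | (norm_num at hd; done) | decide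
        · have hp3 : r ∣ 2 ^ 4 * (3 * 11) := by norm_num; exact hd
          rcases h7.dvd_mul.mp hp3 with h | h
          · rw [(Nat.prime_dvd_prime_iff_eq h7 Nat.prime_two).mp (h7.dvd_of_dvd_pow h)]; decide
          · rcases h7.dvd_mul.mp h with h | h
            · rw [(Nat.prime_dvd_prime_iff_eq h7 Nat.prime_three).mp h]; decide
            · rw [(Nat.prime_dvd_prime_iff_eq h7 (by norm_num)).mp h]; decide
      have hfin : ∀ p ∈ ([3, 5, 7, 11, 23] : List ℕ), ∀ r ∈ ([2, 3, 5, 11] : List ℕ), ∀ i j : Fin 5, j.1 < i.1 →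
          r ^ i.1 ∣ p ^ 2 - 1 → r ^ j.1 ≤ p - 1 → r ^ i.1 % p = r ^ j.1 % p → ((r = 2 ∧ 2 ≤ r ^ j.1) ∨ r ≠ 2) →
          (p = 3 ∧ r ^ i.1 = 8) ∨ (p = 7 ∧ r = 2 ∧ r ^ i.1 = 16 ∧ r ^ j.1 = 2) := by decide +kernel
      exact hfin p (by simpa using h6) r hdiv ⟨i, hib⟩ ⟨j, h2.trans hib⟩ h2 h1 h3 h4 h5
    exact key p r i j hRdvd hji' hCp hmod hcase hp hr
  obtain ⟨v0, hv0⟩ := exists_ne (0 : V)
  obtain ⟨k, hk, hX⟩ := T.stab_card hv0
  rw [hV] at hX
  have hk1 : k ≤ 1 := by
    have hP : IsPGroup p (stabSub ρ v0) := IsPGroup.of_card hk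
    have h := T.card_sylow_le hV _ hP
    rw [hk] at h
    calc k ≤ 1 := (Nat.pow_dvd_pow_iff_le_right (Fact.out : p.Prime).one_lt).mp (by rwa [pow_one])
      _ = 1 := rfl
  rcases hnum with ⟨hp3, hR8⟩ | ⟨hp7, hr2, hR16, hC2⟩
  · refine ⟨⟨R, inferInstance, hRp, k, ?_⟩, fun P => ?_⟩
    · have h := Subgroup.index_mul_card R
      rw [hX, hR8] at h
      subst hp3
      norm_num at h
      omega
    · have hdvd := T.card_sylow_le hV _ P.isPGroup'
      rcases (Nat.dvd_prime Fact.out).mp hdvd with h | h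
      · haveI : Subsingleton (P : Subgroup X) := (Nat.card_eq_one_iff_unique.mp h).1
        exact ⟨⟨fun a b => Subsingleton.elim _ _⟩⟩
      · haveI := isCyclic_of_prime_card (α := (P : Subgroup X)) (p := p) h
        infer_instance
  · exfalso
    subst hr2
    subst hp7
    have huniq : ∀ a b : R, orderOf a = 2 → orderOf b = 2 → a ∈ Subgroup.zpowers b := by
      intro a b ha hb
      have : a = b := Subtype.ext (T.involution_unique hp2 (by rw [Subgroup.orderOf_coe, ha]) (by rw [Subgroup.orderOf_coe, hb]))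
      rw [this]; exact Subgroup.mem_zpowers b
    obtain ⟨y, hy⟩ : ∃ y : R, y ^ 4 ≠ 1 := by
      rcases Cfsg.Agent.Lib.Frobenius.isCyclic_or_quaternion_of_unique (pCore_isPGroup 2 X) huniq with
        hc | ⟨-, m, ⟨e⟩⟩
      · obtain ⟨g, hg⟩ := hc.exists_generator
        refine ⟨g, fun h => ?_⟩
        have h1 : orderOf g = 16 := by rw [orderOf_eq_card_of_forall_mem_zpowers hg]; exact hR16
        have := orderOf_dvd_of_pow_eq_one h
        rw [h1] at this
        norm_num at this
      · have h1 : Nat.card (QuaternionGroup (2 ^ (m + 1))) = 16 := (Nat.card_congr e.toEquiv).symm.trans hR16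
        rw [Nat.card_eq_fintype_card, QuaternionGroup.card] at h1
        have hm : 2 ^ (m + 1) = 4 := by omega
        refine ⟨e.symm (QuaternionGroup.a 1), fun h => ?_⟩
        rw [← map_pow, MulEquiv.map_eq_one_iff] at h
        have h2 := orderOf_dvd_of_pow_eq_one h
        rw [QuaternionGroup.orderOf_a_one, hm] at h2
        norm_num at h2
    -- the subgroup generated by the squares
    set W := Subgroup.closure {u : X | ∃ x ∈ R, u = x * x} with hW
    have hWR : W ≤ R := (Subgroup.closure_le _).mpr (by rintro _ ⟨x, hx, rfl⟩; exact mul_mem hx hx)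
    have hsW : ∀ w ∈ W, s * w * s⁻¹ ∈ W := by
      intro w hw
      induction hw using Subgroup.closure_induction with
      | mem u hu =>
        obtain ⟨x, hx, rfl⟩ := hu
        exact Subgroup.subset_closure ⟨s * x * s⁻¹, (inferInstance : R.Normal).conj_mem x hx s, by group⟩
      | one => rw [mul_one, mul_inv_cancel]; exact one_mem _
      | mul a b _ _ ha hb => rw [show s * (a * b) * s⁻¹ = (s * a * s⁻¹) * (s * b * s⁻¹) by group]; exact mul_mem ha hb
      | inv a _ ha => rw [show s * a⁻¹ * s⁻¹ = (s * a * s⁻¹)⁻¹ by group]; exact inv_mem ha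
    obtain ⟨M, hM⟩ := Sylow.exists_subgroup_card_pow_prime 2 (n := 3) (G := R) (by rw [hR16]; norm_num)
    have hMi : M.index = 2 := by
      have := M.index_mul_card
      rw [hM, hR16] at this
      omega
    have hWM : W ≤ M.map R.subtype := (Subgroup.closure_le _).mpr (by
      rintro _ ⟨x, hx, rfl⟩
      exact ⟨⟨x, hx⟩ * ⟨x, hx⟩, by
        have := Subgroup.sq_mem_of_index_two hMi ⟨x, hx⟩
        rwa [pow_two] at this, rfl⟩)
    have hW8 : Nat.card W ∣ 8 := by
      have h := Subgroup.card_dvd_of_le hWM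
      rwa [Nat.card_congr (Subgroup.equivMapOfInjective M _ R.subtype_injective).toEquiv.symm, hM] at h
    have hW2 : Nat.card ↥(W ⊓ Subgroup.centralizer ({s} : Set X)) ∣ 2 := by
      rw [← hC2]
      exact Subgroup.card_dvd_of_le (inf_le_inf_right _ hWR)
    have hmod' := card_modEq_fixed (ℓ := 7) W s ⟨1, by rw [pow_one, ← hs, pow_orderOf_eq_one]⟩ hsW
    have hyW : (y : X) * y ∈ W := Subgroup.subset_closure ⟨y, y.2, rfl⟩
    have hW3 : ¬ Nat.card W ∣ 2 := by
      intro h
      have h1 : orderOf ((y : X) * y) ∣ 2 := (Subgroup.orderOf_dvd_natCard W hyW).trans h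
      have h2 := orderOf_dvd_iff_pow_eq_one.mp h1
      apply hy
      apply Subtype.ext
      rw [SubgroupClass.coe_pow, OneMemClass.coe_one, ← h2, ← pow_two, ← pow_mul]
    obtain ⟨a, ha, ha'⟩ := (Nat.dvd_prime_pow Nat.prime_two).mp (show Nat.card W ∣ 2 ^ 3 by norm_num; exact hW8)
    obtain ⟨b, hb, hb'⟩ := (Nat.dvd_prime_pow Nat.prime_two).mp (show _ ∣ 2 ^ 1 by norm_num; exact hW2)
    rw [ha'] at hW3 hmod'
    rw [hb'] at hmod'
    have hfix : Nat.card ↥(W ⊓ Subgroup.centralizer ({s} : Set X)) ∣ Nat.card W := Subgroup.card_dvd_of_le inf_le_left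
    have hb1 : b = 0 → False := by
      intro e
      obtain ⟨z, hz⟩ := exists_prime_orderOf_dvd_card' (G := W) 2 (by
        rw [ha']
        refine dvd_pow_self 2 ?_
        rintro rfl
        exact hW3 (one_dvd _))
      have hzC : (z : X) ∈ W ⊓ Subgroup.centralizer ({s} : Set X) :=
        ⟨z.2, Subgroup.mem_centralizer_singleton_iff.mpr
          (T.involution_central hp2 (by rw [Subgroup.orderOf_coe, hz]) s).symm⟩
      rw [e, pow_zero] at hb'
      have := (Subgroup.eq_bot_of_card_eq _ hb').le hzC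
      rw [Subgroup.mem_bot] at this
      have h2 : z = 1 := Subtype.ext this
      rw [h2, orderOf_one] at hz
      exact absurd hz (by norm_num)
    interval_cases b
    · exact hb1 rfl
    interval_cases a <;> first | (norm_num at hW3; done) | (norm_num [Nat.ModEq] at hmod'; done) | (exact absurd hmod' (by rw [Nat.ModEq]; decide))

/-- The theorem. -/
theorem good [hsol : Group.IsSolvable X] : Good p X := by
  rcases Cfsg.Agent.S3360.result p (V := V) hsol ρ T.inj T.trans with ⟨F, iF, fF, e, h⟩ | h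
  · letI := iF; letI := fF
    exact T.good_semilinear e h
  · obtain ⟨d, hd, hV⟩ := exists_card_V (p := p) (V := V)
    have key : ∀ q : ℕ, q.Prime → Nat.card V = q ^ 2 → p = q := fun q hq e => by
      have h1 : p ∣ q ^ 2 := e ▸ hV ▸ dvd_pow_self p hd
      exact (Nat.prime_dvd_prime_iff_eq Fact.out hq).mp ((Fact.out : p.Prime).dvd_of_dvd_pow h1)
    simp only [Set.mem_insert_iff, Set.mem_singleton_iff] at h
    rcases h with h | h | h | h | h | h
    · have := key 3 (by norm_num) h; subst this; exact T.good_square h (by decide)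
    · have := key 5 (by norm_num) h; subst this; exact T.good_square h (by decide)
    · have := key 7 (by norm_num) h; subst this; exact T.good_square h (by decide)
    · have := key 11 (by norm_num) h; subst this; exact T.good_square h (by decide)
    · have := key 23 (by norm_num) h; subst this; exact T.good_square h (by decide)
    · exact T.good_eighty_one h

end Trans

end Cfsg.Agent.Lib.TwoClassQuot
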